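import Groth.Agent.Lib.Cech24.Injective
import Mathlib.Algebra.Category.ModuleCat.Presheaf.Free
import Mathlib.CategoryTheory.Abelian.Images
import Mathlib.Algebra.Category.ModuleCat.Presheaf.Abelian

/-!
Čech cohomology of injective presheaves of modules.
-/

universe w v u

set_option autoImplicit false
set_option linter.style.haveILetI false
set_option backward.isDefEq.respectTransparency false
set_option backward.isDefEq.respectTransparency.types false
set_option maxHeartbeats 400000

open CategoryTheory CategoryTheory.Limits Opposite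

namespace Groth.Agent.Rlim10

open Cech24

section Cech

variable {C : Type u} [Category.{v} C] [LocallySmall.{w} C] {U : C} {ι : Type w} (Uf : ι → Over U)
  [HasFiniteProducts (Over U)] {R : Cᵒᵖ ⥤ RingCat.{w}} (I : PresheafOfModules.{w} R)

/-- The boundary of one tuple. -/
noncomputable def bsum {n : ℕ} (T : Cᵒᵖ) (σ : Tup (toBase Uf T) (n + 1)) :
    (ModuleCat.free (R.obj T)).obj ((tupPsh Uf n).obj T) :=
  ∑ i : Fin (n + 2), (-1 : ℤ) ^ (i : ℕ) •
    (ModuleCat.freeMk (R := R.obj T) (face i σ) : (ModuleCat.free (R.obj T)).obj ((tupPsh Uf n).obj T))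

/-- The boundary on free modules of tuples. -/
noncomputable def dMod (n : ℕ) :
    PresheafOfModules.freeObj (R := R) (tupPsh Uf (n + 1)) ⟶ PresheafOfModules.freeObj (R := R) (tupPsh Uf n) :=
  PresheafOfModules.freeObjDesc
    { app := fun T => TypeCat.ofHom fun σ : Tup (toBase Uf T) (n + 1) =>
        bsum Uf (R := R) T σ
      naturality := fun T T' g => by
        refine ConcreteCategory.hom_ext _ _ fun σ => ?_
        show bsum Uf (R := R) T' ((tupPsh Uf (n + 1)).map g σ) =
          (ModuleCat.freeDesc (↾fun x => ModuleCat.freeMk ((tupPsh Uf n).map g x)) :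
            (ModuleCat.free (R.obj T)).obj ((tupPsh Uf n).obj T) ⟶
              (ModuleCat.restrictScalars (R.map g).hom).obj ((ModuleCat.free (R.obj T')).obj ((tupPsh Uf n).obj T')))
            (bsum Uf (R := R) T σ)
        rw [bsum, bsum, map_sum]
        refine Finset.sum_congr rfl fun i _ => ?_
        rw [map_zsmul]
        refine congrArg _ ?_
        erw [ModuleCat.freeDesc_apply]
        rfl }

theorem dMod_mk {n : ℕ} (T : Cᵒᵖ) (σ : Tup (toBase Uf T) (n + 1)) :
    (dMod (R := R) Uf n).app T (ModuleCat.freeMk σ) =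
      ∑ i : Fin (n + 2), (-1 : ℤ) ^ (i : ℕ) •
        (ModuleCat.freeMk (R := R.obj T) (face i σ) : (ModuleCat.free (R.obj T)).obj ((tupPsh Uf n).obj T)) :=
  ModuleCat.freeDesc_apply _ _

theorem exists_of_dMod_eq_zero {n : ℕ} (T : Cᵒᵖ)
    (z : (ModuleCat.free (R.obj T)).obj ((tupPsh Uf (n + 1)).obj T)) (hz : (dMod (R := R) Uf n).app T z = 0) :
    ∃ y, (dMod (R := R) Uf (n + 1)).app T y = z := by
  let h : ∀ m, (ModuleCat.free (R.obj T)).obj ((tupPsh Uf m).obj T) ⟶
      (ModuleCat.free (R.obj T)).obj ((tupPsh Uf (m + 1)).obj T) := fun m =>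
    (ModuleCat.free (R.obj T)).map (↾fun σ => cons' (toBase Uf T) σ)
  let d : ∀ m, (ModuleCat.free (R.obj T)).obj ((tupPsh Uf (m + 1)).obj T) ⟶
      (ModuleCat.free (R.obj T)).obj ((tupPsh Uf m).obj T) := fun m => (dMod (R := R) Uf m).app T
  have hh : ∀ m (σ : Tup (toBase Uf T) m), h m (ModuleCat.freeMk σ) = ModuleCat.freeMk (cons' (toBase Uf T) σ) :=
    fun m σ => by simp [h]
  have key : h (n + 1) ≫ d (n + 1) + d n ≫ h n = 𝟙 _ := by
    refine ModuleCat.free_hom_ext fun σ => ?_
    show d (n + 1) (h (n + 1) (ModuleCat.freeMk σ)) + h n (d n (ModuleCat.freeMk σ)) = ModuleCat.freeMk σ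
    rw [hh, show d (n + 1) (ModuleCat.freeMk (cons' (toBase Uf T) σ)) = _ from dMod_mk Uf T (cons' (toBase Uf T) σ),
      show d n (ModuleCat.freeMk σ) = _ from dMod_mk Uf T σ]
    erw [Fin.sum_univ_succ, face_zero_cons, map_sum, add_assoc, ← Finset.sum_add_distrib,
      Finset.sum_eq_zero, add_zero]
    · simp
    · intro i _
      rw [face_succ_cons, map_zsmul, hh, Fin.val_succ, pow_succ, mul_neg_one, neg_zsmul, neg_add_cancel]
  refine ⟨h (n + 1) z, ?_⟩
  have := ConcreteCategory.congr_hom key z
  have h0 : d n z = 0 := hz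
  have h1 : d (n + 1) (h (n + 1) z) + h n (d n z) = z := this
  rw [h0, map_zero, add_zero] at h1
  exact h1

/-- The morphism of modules given by a cochain. -/
noncomputable def ofMod {n : ℕ} (c : ∀ a : Fin (n + 1) → ι, I.presheaf.obj (op (pr Uf a).left)) :
    PresheafOfModules.freeObj (R := R) (tupPsh Uf n) ⟶ I :=
  PresheafOfModules.freeObjDesc
    { app := fun T => ↾fun σ => (ofCochain Uf I.presheaf c).app T (FreeAbelianGroup.of σ)
      naturality := fun T T' g => by
        refine ConcreteCategory.hom_ext _ _ fun σ => ?_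
        refine Eq.trans ?_ (NatTrans.naturality_apply (ofCochain Uf I.presheaf c) g (FreeAbelianGroup.of σ))
        exact congrArg ((ofCochain Uf I.presheaf c).app T') (FreeAbelianGroup.map_of_apply _).symm }

theorem ofMod_mk {n : ℕ} (c : ∀ a : Fin (n + 1) → ι, I.presheaf.obj (op (pr Uf a).left)) (T : Cᵒᵖ)
    (σ : Tup (toBase Uf T) n) :
    (ofMod Uf I c).app T (ModuleCat.freeMk σ) = (ofCochain Uf I.presheaf c).app T (FreeAbelianGroup.of σ) :=
  ModuleCat.freeDesc_apply _ _

theorem dMod_ofMod {n : ℕ} (c : ∀ a : Fin (n + 1) → ι, I.presheaf.obj (op (pr Uf a).left)) :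
    dMod Uf n ≫ ofMod Uf I c = ofMod Uf I (dCochain Uf I.presheaf c) := by
  refine PresheafOfModules.Hom.ext (funext fun T => ModuleCat.free_hom_ext fun σ => ?_)
  refine Eq.trans ?_ (ofMod_mk Uf I (dCochain Uf I.presheaf c) T σ).symm
  show (ofMod Uf I c).app T ((dMod (R := R) Uf n).app T (ModuleCat.freeMk σ)) = _
  rw [← bdry_ofCochain]
  show _ = (ofCochain Uf I.presheaf c).app T (bdry (toBase Uf T) n (FreeAbelianGroup.of σ))
  erw [dMod_mk, bdry_of, map_sum, map_sum]
  refine Finset.sum_congr rfl fun i _ => ?_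
  rw [map_zsmul]
  erw [map_zsmul, ofMod_mk]

/-- Cocycles of an injective presheaf of modules are coboundaries. -/
theorem exists_cochain_of_cocycle_mod [Injective I] {n : ℕ}
    (c : ∀ a : Fin (n + 2) → ι, I.presheaf.obj (op (pr Uf a).left)) (hc : dCochain Uf I.presheaf c = 0) :
    ∃ b, dCochain Uf I.presheaf b = c := by
  have hk : kernel.ι (dMod (R := R) Uf n) ≫ ofMod Uf I c = 0 := by
    refine PresheafOfModules.Hom.ext (funext fun T => ModuleCat.hom_ext (LinearMap.ext fun z => ?_))
    have hz : (dMod (R := R) Uf n).app T ((kernel.ι (dMod (R := R) Uf n)).app T z) = 0 :=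
      ConcreteCategory.congr_hom (congrArg (fun t => PresheafOfModules.Hom.app t T)
        (kernel.condition (dMod (R := R) Uf n))) z
    obtain ⟨y, hy⟩ := exists_of_dMod_eq_zero Uf T _ hz
    show (ofMod Uf I c).app T ((kernel.ι (dMod (R := R) Uf n)).app T z) = _
    rw [← hy]
    refine (ConcreteCategory.congr_hom (congrArg (fun t => PresheafOfModules.Hom.app t T)
      (dMod_ofMod Uf I c)) y).trans ?_
    have h0 : (ofMod Uf I (dCochain Uf I.presheaf c)).app T = 0 := by
      refine ModuleCat.free_hom_ext fun σ => (ofMod_mk Uf I _ T σ).trans ?_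
      rw [hc]
      exact (FreeAbelianGroup.lift_apply_of _ _).trans (map_zero _)
    rw [h0]
    rfl
  let φ : PresheafOfModules.freeObj (R := R) (tupPsh Uf n) ⟶ I :=
    Injective.factorThru (cokernel.desc (kernel.ι (dMod (R := R) Uf n)) (ofMod Uf I c) hk)
      (Abelian.factorThruCoimage (dMod (R := R) Uf n))
  have e : dMod Uf n ≫ φ = ofMod Uf I c :=
    (congrArg (· ≫ _) (Abelian.coimage.fac (dMod (R := R) Uf n)).symm).trans ((Category.assoc _ _ _).trans
      ((congrArg (_ ≫ ·) (Injective.comp_factorThru _ _)).trans (cokernel.π_desc _ _ hk)))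
  let φab : chains Uf n ⟶ I.presheaf :=
    { app := fun T => AddCommGrpCat.ofHom (FreeAbelianGroup.lift fun σ => φ.app T (ModuleCat.freeMk σ))
      naturality := fun T T' g => by
        refine AddCommGrpCat.hom_ext (FreeAbelianGroup.lift_ext _ _ fun σ => ?_)
        change FreeAbelianGroup.lift _ (FreeAbelianGroup.map ((tupPsh Uf n).map g) (FreeAbelianGroup.of σ)) =
          I.presheaf.map g (FreeAbelianGroup.lift _ (FreeAbelianGroup.of σ))
        erw [FreeAbelianGroup.map_of_apply, FreeAbelianGroup.lift_apply_of, FreeAbelianGroup.lift_apply_of]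
        refine Eq.trans ?_ (PresheafOfModules.naturality_apply φ g (ModuleCat.freeMk σ))
        refine congrArg (φ.app T') ?_
        simp only [PresheafOfModules.freeObj_map]
        erw [ModuleCat.freeDesc_apply]
        rfl }
  obtain ⟨b, hb⟩ := ofCochain_surjective Uf I.presheaf φab
  have hφ : ofMod Uf I b = φ := by
    refine PresheafOfModules.Hom.ext (funext fun T => ModuleCat.free_hom_ext fun σ => (ofMod_mk Uf I b T σ).trans ?_)
    rw [hb]
    exact FreeAbelianGroup.lift_apply_of _ _
  refine ⟨b, funext fun a => ?_⟩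
  have e' := congrArg (fun t => PresheafOfModules.Hom.app t (op (pr Uf a).left)) ((dMod_ofMod Uf I b).symm.trans
    ((congrArg (dMod Uf n ≫ ·) hφ).trans e))
  rw [← ofCochain_taut Uf I.presheaf (dCochain Uf I.presheaf b) a, ← ofCochain_taut Uf I.presheaf c a]
  exact (ofMod_mk Uf I _ _ _).symm.trans ((ConcreteCategory.congr_hom e' _).trans (ofMod_mk Uf I _ _ _))

/-- Čech cohomology of an injective presheaf of modules vanishes in positive degrees. -/
theorem isZero_cechH_injective_mod [Injective I] (p : ℕ) :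
    IsZero (EtCech.cechH Uf I.presheaf (p + 1)) := by
  refine ((EtCech.cechComplex Uf I.presheaf).exactAt_iff_isZero_homology (p + 1)).1 ?_
  rw [(EtCech.cechComplex Uf I.presheaf).exactAt_iff' p (p + 1) (p + 2) (by simp) (by simp),
    ShortComplex.ab_exact_iff]
  intro x hx
  obtain ⟨b, hb⟩ := exists_cochain_of_cocycle_mod Uf I (fun a => comp' Uf I.presheaf a x) (funext fun a =>
    (comp_d Uf I.presheaf x a).symm.trans ((congrArg (comp' Uf I.presheaf a) hx).trans (map_zero _)))
  obtain ⟨y, hy⟩ := exists_pi' (G := fun a : Fin (p + 1) → ι => I.presheaf.obj (op (pr Uf a).left)) b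
  refine ⟨y, pi_ext' (G := fun a : Fin (p + 2) → ι => I.presheaf.obj (op (pr Uf a).left)) fun a => ?_⟩
  refine (comp_d Uf I.presheaf y a).trans ?_
  rw [show (fun a => comp' Uf I.presheaf a y) = b from funext hy, hb]
  rfl

end Cech

end Groth.Agent.Rlim10
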