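import Groth.Prelude.Def_AlgSpD
import Groth.Agent.Lib.Rlim10.Cech
import Groth.Agent.Lib.QcohEt15.Vanish
import Groth.Agent.Lib.QcohEt15.Free
import Groth.Agent.Lib.SiteRlim16.Trunc
import Groth.Agent.Lib.ModGab32.Basic
import Mathlib.Algebra.Category.ModuleCat.Presheaf.Sheafification

/-!
Derived limits of truncations on the small etale site of an algebraic space.
-/

universe w v u

set_option autoImplicit false
set_option linter.style.haveILetI false
set_option backward.isDefEq.respectTransparency false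
set_option backward.isDefEq.respectTransparency.types false
set_option maxHeartbeats 800000

open CategoryTheory CategoryTheory.Limits Opposite AlgebraicGeometry

namespace Groth.Agent.Rlim10

open Cech24


section Et

open AlgSp QcohEt15 Abelian

variable {S : Scheme.{u}} (X : Sp S)

/-- Free modules on the objects of the site. -/
noncomputable def genEt : EtOver X ⥤ ModEt X :=
  uliftYoneda.{u + 1} ⋙ PresheafOfModules.free (OEtRing X).obj ⋙
    PresheafOfModules.sheafification (𝟙 (OEtRing X).obj)

variable {X}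

/-- Maps out of a free module are sections. -/
noncomputable def genEtHom (V : EtOver X) (M : ModEt X) :
    ((genEt X).obj V ⟶ M) ≃ ((SheafOfModules.toSheaf (OEtRing X)).obj M).obj.obj (op V) :=
  ((PresheafOfModules.sheafificationAdjunction (𝟙 (OEtRing X).obj)).homEquiv _ M).trans
    (((PresheafOfModules.freeAdjunction (OEtRing X).obj).homEquiv _ _).trans uliftYonedaEquiv.{u + 1})

theorem genEtHom_post {V : EtOver X} {M N : ModEt X} (φ : (genEt X).obj V ⟶ M) (f : M ⟶ N) :
    genEtHom V N (φ ≫ f) = ((SheafOfModules.toSheaf (OEtRing X)).map f).hom.app (op V) (genEtHom V M φ) := by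
  have h1 := (PresheafOfModules.sheafificationAdjunction (𝟙 (OEtRing X).obj)).homEquiv_naturality_right φ f
  have h2 := (PresheafOfModules.freeAdjunction (OEtRing X).obj).homEquiv_naturality_right
    ((PresheafOfModules.sheafificationAdjunction (𝟙 (OEtRing X).obj)).homEquiv _ M φ)
    ((SheafOfModules.forget (OEtRing X) ⋙ PresheafOfModules.restrictScalars (𝟙 (OEtRing X).obj)).map f)
  exact (congrArg (fun t => uliftYonedaEquiv.{u + 1} ((PresheafOfModules.freeAdjunction (OEtRing X).obj).homEquiv _ _ t))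
    h1).trans (congrArg uliftYonedaEquiv.{u + 1} h2)

theorem genEtHom_pre {V W : EtOver X} (g : W ⟶ V) (M : ModEt X) (φ : (genEt X).obj V ⟶ M) :
    genEtHom W M ((genEt X).map g ≫ φ) =
      ((SheafOfModules.toSheaf (OEtRing X)).obj M).obj.map g.op (genEtHom V M φ) := by
  have h1 := (PresheafOfModules.sheafificationAdjunction (𝟙 (OEtRing X).obj)).homEquiv_naturality_left
    ((PresheafOfModules.free (OEtRing X).obj).map (uliftYoneda.{u + 1}.map g)) φ
  have h2 := (PresheafOfModules.freeAdjunction (OEtRing X).obj).homEquiv_naturality_left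
    (uliftYoneda.{u + 1}.map g) ((PresheafOfModules.sheafificationAdjunction (𝟙 (OEtRing X).obj)).homEquiv _ M φ)
  refine (congrArg (fun t => uliftYonedaEquiv.{u + 1} ((PresheafOfModules.freeAdjunction (OEtRing X).obj).homEquiv _ _ t))
    h1).trans ((congrArg uliftYonedaEquiv.{u + 1} h2).trans ?_)
  exact (uliftYonedaEquiv_naturality.{u + 1} (X := op V) (Y := op W) _ g.op).symm

theorem localGen_genEt : SiteRlim.LocalGen (etTop X) (genEt X) where
  sep {U} M φ S hS h := by
    refine (genEtHom U M).injective ((Presheaf.IsSheaf.isSeparated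
      ((SheafOfModules.toSheaf (OEtRing X)).obj M).property) U S hS _ _ fun V g hg => ?_)
    change ((SheafOfModules.toSheaf (OEtRing X)).obj M).obj.map g.op (genEtHom U M φ) =
      ((SheafOfModules.toSheaf (OEtRing X)).obj M).obj.map g.op (genEtHom U M 0)
    rw [← genEtHom_pre, ← genEtHom_pre, h g hg, comp_zero]
  lift {U} M N π _ φ := by
    haveI : Epi ((SheafOfModules.toSheaf (OEtRing X)).map π) := epi_toSheaf_map (OEtRing X) π
    haveI : Sheaf.IsLocallySurjective ((SheafOfModules.toSheaf (OEtRing X)).map π) :=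
      (Sheaf.isLocallySurjective_iff_epi' _ _).2 inferInstance
    refine ⟨Presheaf.imageSieve ((SheafOfModules.toSheaf (OEtRing X)).map π).hom (genEtHom U N φ),
      Presheaf.imageSieve_mem (etTop X) _ (genEtHom U N φ), fun {V} g hg => ?_⟩
    obtain ⟨t, ht⟩ := hg
    exact ⟨(genEtHom V M).symm t, (genEtHom V N).injective
      (by rw [genEtHom_post, Equiv.apply_symm_apply, genEtHom_pre]; exact ht)⟩
  gen {M N} f h := by
    refine (SheafOfModules.toSheaf (OEtRing X)).map_injective ?_
    rw [Functor.map_zero]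
    refine Sheaf.hom_ext (NatTrans.ext (funext fun U => AddCommGrpCat.hom_ext (AddMonoidHom.ext fun x => ?_)))
    have h1 := genEtHom_post ((genEtHom U.unop M).symm x) f
    rw [h, Equiv.apply_symm_apply] at h1
    refine h1.symm.trans ?_
    have h2 := genEtHom_post (0 : (genEt X).obj U.unop ⟶ M) (0 : M ⟶ N)
    rw [Functor.map_zero, comp_zero] at h2
    exact h2

theorem acycAff_injective_mod (I : ModEt X) [Injective I] : AcycAff ((toAbEt X).obj I) := by
  haveI : Injective I.val :=
    Injective.injective_of_adjoint (PresheafOfModules.sheafificationAdjunction (𝟙 (OEtRing X).obj)) I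
  exact fun E E₀ _ _ h _ n => isZero_cechH_injective_mod (one h) I.val n

theorem shortExact_toAb {T : ShortComplex (ModEt X)} (hT : T.ShortExact) : (T.map (toAbEt X)).ShortExact := by
  haveI : PreservesFiniteLimits (toAbEt X) :=
    (inferInstance : PreservesFiniteLimits (SheafOfModules.toSheaf (OEtRing X)))
  haveI := hT.mono_f
  haveI := hT.epi_g
  haveI : Epi ((toAbEt X).map T.g) := epi_toSheaf_map (OEtRing X) _
  haveI : Mono ((toAbEt X).map T.f) := (toAbEt X).map_mono _
  exact
    { exact := ShortComplex.exact_of_f_is_kernel _ (KernelFork.mapIsLimit _ hT.fIsKernel (toAbEt X))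
      mono_f := inferInstanceAs (Mono ((toAbEt X).map T.f))
      epi_g := inferInstanceAs (Epi ((toAbEt X).map T.g)) }

theorem exists_factor {V : EtOver X} [IsAffine V.obj.left.left] {T : ShortComplex (ModEt X)} (hT : T.ShortExact)
    (h1 : AcycAff ((toAbEt X).obj T.X₁)) (f : (genEt X).obj V ⟶ T.X₃) : ∃ g, g ≫ T.g = f := by
  obtain ⟨t, ht⟩ := surjective_of_acycAff (shortExact_toAb hT) h1 V (genEtHom V _ f)
  refine ⟨(genEtHom V _).symm t, (genEtHom V _).injective ?_⟩
  have h := genEtHom_post ((genEtHom V _).symm t) T.g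
  rw [Equiv.apply_symm_apply] at h
  exact h.trans ht

theorem acyc_X₃ {T : ShortComplex (ModEt X)} (hT : T.ShortExact) [Injective T.X₂]
    (h1 : AcycAff ((toAbEt X).obj T.X₁)) : AcycAff ((toAbEt X).obj T.X₃) :=
  acycAff_X₃ (T := T.map (toAbEt X)) (shortExact_toAb hT) h1 (acycAff_injective_mod T.X₂)

theorem subsingleton_ext_genEt [HasExt.{u + 1} (ModEt X)] [EnoughInjectives (ModEt X)]
    (V : EtOver X) [IsAffine V.obj.left.left] :
    ∀ (n : ℕ) (M : ModEt X), AcycAff ((toAbEt X).obj M) →
      Subsingleton (Ext.{u + 1} ((genEt X).obj V) M (n + 1)) := by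
  intro n
  induction n with
  | zero =>
    intro M hM
    obtain ⟨T, hT, hI, rfl⟩ : ∃ T : ShortComplex (ModEt X), T.ShortExact ∧ Injective T.X₂ ∧ T.X₁ = M :=
      ⟨ShortComplex.mk (Injective.ι M) (cokernel.π (Injective.ι M)) (cokernel.condition _),
        { exact := ShortComplex.exact_of_g_is_cokernel _ (cokernelIsCokernel _) },
        (inferInstance : Injective (Injective.under M)), rfl⟩
    refine subsingleton_of_forall_eq 0 fun x => ?_
    obtain ⟨y, rfl⟩ := Ext.covariant_sequence_exact₁ _ hT x (Ext.eq_zero_of_injective _) (n₀ := 0) rfl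
    obtain ⟨f, rfl⟩ := (Ext.mk₀_bijective _ _).2 y
    obtain ⟨g, hg⟩ := exists_factor hT hM f
    rw [← hg, ← Ext.mk₀_comp_mk₀, Ext.comp_assoc_of_second_deg_zero, hT.comp_extClass, Ext.comp_zero]
  | succ n ih =>
    intro M hM
    obtain ⟨T, hT, hI, rfl⟩ : ∃ T : ShortComplex (ModEt X), T.ShortExact ∧ Injective T.X₂ ∧ T.X₁ = M :=
      ⟨ShortComplex.mk (Injective.ι M) (cokernel.π (Injective.ι M)) (cokernel.condition _),
        { exact := ShortComplex.exact_of_g_is_cokernel _ (cokernelIsCokernel _) },
        (inferInstance : Injective (Injective.under M)), rfl⟩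
    refine subsingleton_of_forall_eq 0 fun x => ?_
    obtain ⟨y, rfl⟩ := Ext.covariant_sequence_exact₁ _ hT x (Ext.eq_zero_of_injective _) (n₀ := n + 1) rfl
    rw [(ih _ (acyc_X₃ hT hM)).elim y 0, Ext.zero_comp]

/-- Every object is covered by affine objects. -/
theorem exists_affine_sieve (U : EtOver X) : ∃ R ∈ etTop X U, ∀ ⦃W : EtOver X⦄ (g : W ⟶ U), R g →
    ∃ (Y : EtOver X) (p : W ⟶ Y) (q : Y ⟶ U), IsAffine Y.obj.left.left ∧ p ≫ q = g := by
  refine ⟨Sieve.ofArrows (fun O : U.obj.left.left.affineOpens => AlgSpEt14.openSub U O.1)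
    (fun O => AlgSpEt14.openSubι U O.1), ofArrows_mem_etTop _ _ fun x => ?_, ?_⟩
  · obtain ⟨W, hW, hxW, -⟩ :=
      U.obj.left.left.isBasis_affineOpens.exists_subset_of_mem_open (Set.mem_univ x) isOpen_univ
    obtain ⟨W, hW', rfl⟩ := hW
    exact ⟨⟨W, hW'⟩, (AlgSpEt14.range_openSubι U W).ge hxW⟩
  · rintro W g ⟨_, a, b, ⟨O⟩, rfl⟩
    exact ⟨_, a, _, O.2, rfl⟩

end Et

end Groth.Agent.Rlim10
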