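import Groth.Agent.Lib.Rlim10.Sections

/-!
The limit of a system of quasi-coherent modules with epimorphic transitions is its derived limit.
-/

universe w u

set_option autoImplicit false
set_option linter.style.haveILetI false
set_option backward.isDefEq.respectTransparency false
set_option backward.isDefEq.respectTransparency.types false
set_option maxHeartbeats 2000000

open CategoryTheory CategoryTheory.Limits CategoryTheory.Pretriangulated Opposite AlgebraicGeometry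

attribute [local instance] HasDerivedCategory.standard

namespace Groth.Agent.Rlim10

open AlgSp QcohEt15

variable {S : Scheme.{u}} {X : Sp S}

theorem isIso_of_gen {M N : ModEt X} (f : M ⟶ N)
    (h₁ : ∀ (W : EtOver X) (s : (genEt X).obj W ⟶ M), s ≫ f = 0 → s = 0)
    (h₂ : ∀ (W : EtOver X) (s : (genEt X).obj W ⟶ N), ∃ r, r ≫ f = s) : IsIso f := by
  haveI : Mono f := Preadditive.mono_of_cancel_zero _ fun {Z} z hz => (localGen_genEt (X := X)).gen z fun W φ =>
    h₁ W _ (by rw [Category.assoc, hz, comp_zero])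
  haveI : Epi f := Preadditive.epi_of_cancel_zero _ fun {Z} z hz => (localGen_genEt (X := X)).gen z fun W φ => by
    obtain ⟨r, rfl⟩ := h₂ W φ
    rw [Category.assoc, hz, comp_zero]
  exact isIso_of_mono_of_epi f

theorem chase₁ {A : Type*} [Category A] [HasZeroMorphisms A] {W P' Z' K' P M : A} {s : W ⟶ P'} {y : P' ⟶ Z'}
    {a : Z' ⟶ K'} {π' : P' ⟶ K'} {iP : P' ⟶ P} {iM : K' ⟶ M} {π : P ⟶ M} (h1 : y ≫ a = π')
    (h2 : π' ≫ iM = iP ≫ π) (hs : s ≫ y = 0) : (s ≫ iP) ≫ π = 0 := by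
  rw [Category.assoc, ← h2, ← h1, ← Category.assoc, ← Category.assoc, hs, zero_comp, zero_comp]

theorem eq_zero_of_retr {A : Type*} [Category A] [HasZeroMorphisms A] {W P' P : A} {s : W ⟶ P'} (iP : P' ⟶ P)
    (jP : P ⟶ P') (hj : iP ≫ jP = 𝟙 P') (h : s ≫ iP = 0) : s = 0 := by
  rw [← Category.comp_id s, ← hj, ← Category.assoc, h, zero_comp]

theorem mono_of_retr {A : Type*} [Category A] {P' P : A} (iP : P' ⟶ P) (jP : P ⟶ P') (hj : iP ≫ jP = 𝟙 P') :
    Mono iP :=
  ⟨fun a b h => by rw [← Category.comp_id a, ← Category.comp_id b, ← hj, ← Category.assoc, h, Category.assoc]⟩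

theorem chase₂ {A : Type*} [Category A] [Preadditive A] {W P' Z' K' P M : A} {s : W ⟶ Z'} {y : P' ⟶ Z'}
    {a : Z' ⟶ K'} {π' : P' ⟶ K'} {l : W ⟶ P} {iP : P' ⟶ P} {jP : P ⟶ P'} {iM : K' ⟶ M} [Mono iM] {π : P ⟶ M}
    (h1 : y ≫ a = π') (h2 : π' ≫ iM = iP ≫ π) (hj : jP ≫ iP = 𝟙 P) (hl : l ≫ π = (s ≫ a) ≫ iM) :
    ((l ≫ jP) ≫ y - s) ≫ a = 0 := by
  rw [Preadditive.sub_comp, sub_eq_zero, ← cancel_mono iM, ← hl]
  simp only [Category.assoc]
  rw [reassoc_of% h1, h2, reassoc_of% hj]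

theorem chase₃ {A : Type*} [Category A] {W Z' K₁ K₀ M₁ M₀ : A} {s : W ⟶ Z'} {a₁ : Z' ⟶ K₁} {a₀ : Z' ⟶ K₀}
    {τ : K₁ ⟶ K₀} {i₁ : K₁ ⟶ M₁} {i₀ : K₀ ⟶ M₀} {t : M₁ ⟶ M₀} (h1 : a₁ ≫ τ = a₀) (h2 : τ ≫ i₀ = i₁ ≫ t) :
    (s ≫ a₀) ≫ i₀ = ((s ≫ a₁) ≫ i₁) ≫ t := by
  rw [← h1]
  simp only [Category.assoc]
  rw [h2]

theorem exists_limit_lift {A : Type*} [Category A] (M : ℕ → A) (t : ∀ n, M (n + 1) ⟶ M n)
    [HasLimit (Functor.ofOpSequence t)] {W : A} (x : ∀ n, W ⟶ M n) (hx : ∀ n, x n = x (n + 1) ≫ t n) :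
    ∃ l : W ⟶ limit (Functor.ofOpSequence t), ∀ n, l ≫ limit.π (Functor.ofOpSequence t) (op n) = x n :=
  ⟨limit.lift _
    { pt := W
      π := NatTrans.ofOpSequence (F := (Functor.const ℕᵒᵖ).obj W) (G := Functor.ofOpSequence t) x fun n => by simpa using hx n },
    fun n => limit.lift_π _ _⟩

variable [IsGrothendieckAbelian.{u + 1} (ModEt X)] [HasExt.{u + 1} (ModEt X)] [EnoughInjectives (ModEt X)]

local notation "HH" => DerivedCategory.homologyFunctor (ModEt X)
local notation "SF" => DerivedCategory.singleFunctor (ModEt X)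

variable (M : ℕ → ModEt X) (t : ∀ n, M (n + 1) ⟶ M n)

theorem isRlimVia_limit (hM : ∀ n, (M n).IsQuasicoherent) (ht : ∀ n, Epi (t n))
    [HasProduct fun n : ℕ => (SF 0).obj (M n)] :
    CohCx.IsRlimVia (fun n => (SF 0).obj (M n)) (fun n => (SF 0).map (t n))
      ((SF 0).obj (limit (Functor.ofOpSequence t)))
      (fun n => (SF 0).map (limit.π (Functor.ofOpSequence t) (op n))) := by
  let K := fun n : ℕ => (SF 0).obj (M n)
  let i := DerivedCategory.singleFunctorCompHomologyFunctorIso (ModEt X) 0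
  have hz : ∀ (N : ModEt X) (q : ℤ), q ≠ 0 → IsZero ((HH q).obj ((SF 0).obj N)) := fun N q hq => by
    rcases lt_or_gt_of_ne hq with h | h
    · exact DerivedCategory.isZero_of_isGE _ 0 q h
    · exact DerivedCategory.isZero_of_isLE _ 0 q h
  have hK : ∀ n, DCoh.IsQCohDMod (OEtRing X) (K n) := fun n q => by
    by_cases hq : q = 0
    · subst hq
      exact (SheafOfModules.isQuasicoherent (OEtRing X)).prop_of_iso (i.app (M n)).symm (hM n)
    · haveI := hM n
      haveI hk : (kernel (𝟙 (M n))).IsQuasicoherent := isQuasicoherent_of_good fun E _ =>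
        good_kernel _ (good_of_isQuasicoherent E) (good_of_isQuasicoherent E)
      exact (SheafOfModules.isQuasicoherent (OEtRing X)).prop_of_iso
        ((isZero_kernel_of_mono (𝟙 (M n))).iso (hz (M n) q hq)) hk
  have htK : ∀ (q : ℤ) (n : ℕ), Epi ((HH q).map ((SF 0).map (t n))) := fun q n => by
    by_cases hq : q = 0
    · subst hq
      haveI := ht n
      have h : Epi (i.hom.app (M (n + 1)) ≫ t n ≫ i.inv.app (M n)) :=
        @epi_comp _ _ _ _ _ _ inferInstance _ (@epi_comp _ _ _ _ _ _ (ht n) _ inferInstance)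
      exact (NatIso.naturality_2 i (t n)) ▸ h
    · exact ⟨fun _ _ _ => (hz (M n) q hq).eq_of_src _ _⟩
  obtain ⟨Z, g, h, hT⟩ := Pretriangulated.distinguished_cocone_triangle₁
    (Pi.lift fun n : ℕ => Pi.π K n - Pi.π K (n + 1) ≫ (SF 0).map (t n))
  obtain ⟨a', ha'⟩ : ∃ a' : ∀ n, Z ⟶ K n, ∀ n, g ≫ Pi.π K n = a' n := ⟨_, fun _ => rfl⟩
  have hg : Pi.lift a' = g := Pi.hom_ext _ _ fun n => by simp [← ha']
  have hL : CohCx.IsRlimVia K (fun n => (SF 0).map (t n)) Z a' := by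
    refine ⟨h, ?_⟩
    rwa [hg]
  have hct : ∀ n, a' (n + 1) ≫ (SF 0).map (t n) = a' n := SiteRlim.comp_transition hL
  let P := limit (Functor.ofOpSequence t)
  have hπ : ∀ n, limit.π (Functor.ofOpSequence t) (op (n + 1)) ≫ t n = limit.π (Functor.ofOpSequence t) (op n) :=
    fun n => by
      have := limit.w (Functor.ofOpSequence t) (homOfLE (Nat.le_succ n)).op
      rw [Functor.ofOpSequence_map_homOfLE_succ] at this
      exact this
  obtain ⟨pr, hpr⟩ : ∃ pr : ∀ n, P ⟶ M n, ∀ n, limit.π (Functor.ofOpSequence t) (op n) = pr n :=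
    ⟨fun n => limit.π (Functor.ofOpSequence t) (op n), fun _ => rfl⟩
  have hπ' : ∀ n, pr (n + 1) ≫ t n = pr n := fun n => by
    rw [← hpr, ← hpr]
    exact hπ n
  obtain ⟨y, hy⟩ := SiteRlim.exists_lift hL (fun n => (SF 0).map (pr n)) fun n => by
    rw [← Functor.map_comp, hπ']
  have hyH : ∀ (q : ℤ) (n : ℕ), (HH q).map y ≫ (HH q).map (a' n) = (HH q).map ((SF 0).map (pr n)) := fun q n =>
    ((HH q).map_comp y _).symm.trans (congrArg ((HH q).map) (hy n))
  have hiπ : ∀ n, (HH 0).map ((SF 0).map (pr n)) ≫ i.hom.app (M n) = i.hom.app P ≫ pr n := fun n =>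
    i.hom.naturality (pr n)
  have hext : ∀ {W : ModEt X} (f : W ⟶ P), (∀ n, f ≫ pr n = 0) → f = 0 := fun f hf =>
    limit.hom_ext fun n => by
      have h1 := hf n.unop
      rw [← hpr] at h1
      exact h1.trans zero_comp.symm
  have h0 : IsIso ((HH 0).map y) := by
    refine isIso_of_gen _ (fun W s hs => ?_) fun W s => ?_
    · have hs₀ : ∀ n, (s ≫ i.hom.app P) ≫ pr n = 0 := fun n => chase₁ (hyH 0 n) (hiπ n) hs
      have hs' : s ≫ i.hom.app P = 0 := hext _ hs₀
      exact eq_zero_of_retr (i.hom.app P) (i.inv.app P) (Iso.hom_inv_id_app i P) hs'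
    · let iM : ∀ n, (HH 0).obj (K n) ⟶ M n := fun n => i.hom.app (M n)
      have hmono : ∀ n, Mono (iM n) := fun n => mono_of_retr (iM n) (i.inv.app (M n)) (Iso.hom_inv_id_app i (M n))
      have hat : ∀ n, (HH 0).map (a' (n + 1)) ≫ (HH 0).map ((SF 0).map (t n)) = (HH 0).map (a' n) := fun n =>
        ((HH 0).map_comp (a' (n + 1)) ((SF 0).map (t n))).symm.trans (congrArg (fun z => (HH 0).map z) (hct n))
      have hit : ∀ n, (HH 0).map ((SF 0).map (t n)) ≫ iM n = iM (n + 1) ≫ t n := fun n =>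
        i.hom.naturality (t n)
      have hiM : ∀ n, (HH 0).map ((SF 0).map (pr n)) ≫ iM n =
          (i.hom.app P : (HH 0).obj ((SF 0).obj P) ⟶ P) ≫ pr n := fun n => hiπ n
      clear_value iM
      obtain ⟨x, hxdef⟩ : ∃ x : ∀ n, (genEt X).obj W ⟶ M n, ∀ n, x n = (s ≫ (HH 0).map (a' n)) ≫ iM n :=
        ⟨_, fun _ => rfl⟩
      have hx : ∀ n, x n = x (n + 1) ≫ t n := fun n => by
        rw [hxdef, hxdef]
        exact chase₃ (hat n) (hit n)
      obtain ⟨l, hl⟩ := exists_limit_lift M t x hx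
      have hd : ∀ n, ((l ≫ (i.inv.app P : P ⟶ (HH 0).obj ((SF 0).obj P))) ≫ (HH 0).map y - s) ≫
          (HH 0).map (a' n) = 0 := fun n =>
        @chase₂ _ _ _ _ _ _ _ _ _ s ((HH 0).map y) ((HH 0).map (a' n)) _ l (i.hom.app P) (i.inv.app P)
          (iM n) (hmono n) _ (hyH 0 n) (hiM n) (Iso.inv_hom_id_app i P) (((congrArg (fun z => l ≫ z) (hpr n)).symm.trans (hl n)).trans (hxdef n))
      exact ⟨_, sub_eq_zero.1 (section_eq_zero hL hK htK 0 _ hd)⟩
  haveI : IsIso y := (DerivedCategory.isIso_iff _ y).2 fun q => by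
    by_cases hq : q = 0
    · subst hq; exact h0
    · refine isIso_of_gen _ (fun W s _ => (hz P q hq).eq_of_tgt _ _) fun W s => ⟨0, ?_⟩
      rw [zero_comp]
      exact (section_eq_zero hL hK htK q s fun n => (hz (M n) q hq).eq_of_tgt _ _).symm
  refine ⟨h ≫ (inv y)⟦(1 : ℤ)⟧', isomorphic_distinguished _ hT _ (Triangle.isoMk _ _ (asIso y) (Iso.refl _) (Iso.refl _) ?_ ?_ ?_)⟩
  · refine (Category.comp_id _).trans (Pi.hom_ext _ _ fun n => ?_)
    refine (Pi.lift_π _ n).trans ?_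
    refine Eq.trans ?_ (Category.assoc _ _ _).symm
    refine Eq.trans ?_ (congrArg (fun z => y ≫ z) (ha' n)).symm
    exact (congrArg ((SF 0).map) (hpr n)).trans (hy n).symm
  · exact (Category.comp_id _).trans (Category.id_comp _).symm
  · refine Eq.trans ?_ (Category.id_comp _).symm
    refine (Category.assoc _ _ _).trans ?_
    refine (congrArg (fun z => h ≫ z) ?_).trans (Category.comp_id _)
    refine ((shiftFunctor _ (1 : ℤ)).map_comp _ _).symm.trans ?_
    refine (congrArg (fun z => (shiftFunctor _ (1 : ℤ)).map z) (IsIso.inv_hom_id y)).trans ?_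
    exact CategoryTheory.Functor.map_id _ _

end Groth.Agent.Rlim10
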