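import Groth.Agent.Lib.Rlim10.Basic
import Groth.Agent.Lib.QcohEt15.CechGood
import Groth.Agent.Lib.QcohEt15.Kernel
import Groth.Agent.Lib.KInj.Derived
import Groth.Agent.Lib.SiteRlim16.Acyclic
import Mathlib.CategoryTheory.Abelian.GrothendieckCategory.EnoughInjectives

/-!
Sections of the cohomology of a derived limit with epimorphic transitions.
-/

universe w u

set_option autoImplicit false
set_option linter.style.haveILetI false
set_option backward.isDefEq.respectTransparency false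
set_option backward.isDefEq.respectTransparency.types false
set_option maxHeartbeats 400000

open CategoryTheory CategoryTheory.Limits Opposite AlgebraicGeometry

attribute [local instance] HasDerivedCategory.standard

namespace Groth.Agent.Rlim10

open AlgSp QcohEt15

variable {S : Scheme.{u}} {X : Sp S}

/-- The derived limit of the truncations. -/
theorem isRlimVia_qcoh [HasExt.{u + 1} (ModEt X)] [EnoughInjectives (ModEt X)] (E : DModEt X)
    (hE : DCoh.IsQCohDMod (OEtRing X) E) [HasProduct (CohCx.truncTower E)] :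
    CohCx.IsRlimVia (CohCx.truncTower E) (CohCx.truncTowerMap E) E (CohCx.toTruncTower E) := by
  refine SiteRlim.isRlimVia_truncTower (localGen_genEt (X := X)) E
    {V | IsAffine V.obj.left.left} (fun U => ?_) fun m V hV => ⟨(-m).toNat, fun T hT => ?_⟩
  · obtain ⟨R, hR, hRY⟩ := exists_affine_sieve U
    exact ⟨R, hR, fun W g hg => let ⟨Y, p, q, hY, hpq⟩ := hRY g hg; ⟨Y, p, q, hY, hpq⟩⟩
  · choose R hR hRY using fun (W : EtOver X) => exists_affine_sieve W
    refine ⟨Sieve.bind T.arrows fun W _ _ => R W, (etTop X).bind_covering hT (fun W _ _ => hR W), ?_⟩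
    rintro W g ⟨Z, a, f, hf, ha, rfl⟩
    obtain ⟨Y, p, q, hY, rfl⟩ := hRY Z a ha
    haveI : IsAffine Y.obj.left.left := hY
    refine ⟨Y, p, q ≫ f, T.downward_closed hf q, (Category.assoc _ _ _).symm,
      SiteRlim.stable_truncTower E m _ fun n hn k hk₁ hk₂ => ?_⟩
    obtain ⟨k, rfl⟩ : ∃ k', k = k' + 1 := ⟨k - 1, by omega⟩
    haveI := hE (-(n : ℤ) - 1)
    exact subsingleton_ext_genEt Y k _ acycAff_toAbEt

theorem hasProduct_nat [IsGrothendieckAbelian.{u + 1} (ModEt X)] (E : ℕ → DModEt X) : HasProduct E := by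
  choose I hI he using fun n => KInjLib.exists_iso_kInjective (E n)
  exact KInjLib.hasProduct_derivedCategory E I hI fun n => (he n).some

/-- Classes on an affine object are sections of cohomology. -/
theorem bijective_θ_qcoh [IsGrothendieckAbelian.{u + 1} (ModEt X)] [HasExt.{u + 1} (ModEt X)]
    [EnoughInjectives (ModEt X)] (K : DModEt X) (hK : DCoh.IsQCohDMod (OEtRing X) K) (V : EtOver X)
    [IsAffine V.obj.left.left] (m : ℤ) :
    Function.Bijective (SiteRlim.θ :
      ((DerivedCategory.singleFunctor (ModEt X) m).obj ((genEt X).obj V) ⟶ K) → _) := by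
  haveI := hasProduct_nat (CohCx.truncTower K)
  refine SiteRlim.bijective_θ_of_isRlimVia _ m K (isRlimVia_qcoh K hK) fun k q hk => ?_
  obtain ⟨k, rfl⟩ : ∃ k', k = k' + 1 := ⟨k - 1, by omega⟩
  haveI := hK q
  exact subsingleton_ext_genEt V k _ acycAff_toAbEt

/-- An epimorphism of quasi-coherent modules lifts on affine objects. -/
theorem exists_factor_epi {M N : ModEt X} (hM : M.IsQuasicoherent) (hN : N.IsQuasicoherent) (φ : M ⟶ N) [Epi φ]
    (V : EtOver X) [IsAffine V.obj.left.left] (f : (genEt X).obj V ⟶ N) : ∃ g, g ≫ φ = f := by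
  haveI : (kernel φ).IsQuasicoherent := isQuasicoherent_of_good fun E _ =>
    good_kernel φ (good_of_isQuasicoherent E) (good_of_isQuasicoherent E)
  exact exists_factor (T := ShortComplex.mk (kernel.ι φ) φ (kernel.condition φ))
    { exact := ShortComplex.exact_of_f_is_kernel _ (kernelIsKernel φ) } acycAff_toAbEt f

theorem comp_sub_comp_eq_zero {A : Type*} [Category A] [Preadditive A] {Z Y₁ Y₂ M N P : A} (g₁ : Z ⟶ Y₁)
    (g₂ : Z ⟶ Y₂) (s₁ : Y₁ ⟶ M) (s₂ : Y₂ ⟶ M) (φ : M ⟶ N) (f₁ : Y₁ ⟶ P) (f₂ : Y₂ ⟶ P) (x : P ⟶ N)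
    (h₁ : s₁ ≫ φ = f₁ ≫ x) (h₂ : s₂ ≫ φ = f₂ ≫ x) (e : g₁ ≫ f₁ = g₂ ≫ f₂) :
    (g₁ ≫ s₁ - g₂ ≫ s₂) ≫ φ = 0 := by
  rw [Preadditive.sub_comp, Category.assoc, Category.assoc, h₁, h₂, ← Category.assoc, e, Category.assoc, sub_self]

theorem comp_sub_eq_zero {A : Type*} [Category A] [Preadditive A] {Z U M N : A} (g : Z ⟶ U) (s : U ⟶ M)
    (φ : M ⟶ N) (x : U ⟶ N) (σ : Z ⟶ M) (h : g ≫ s = σ) (h' : σ ≫ φ = g ≫ x) : g ≫ (s ≫ φ - x) = 0 := by
  rw [Preadditive.comp_sub, ← Category.assoc, h, h', sub_self]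

section Tower

variable {K : ℕ → DModEt X} {t : ∀ n, K (n + 1) ⟶ K n} [HasProduct K] {L : DModEt X} {a : ∀ n, L ⟶ K n}
  [IsGrothendieckAbelian.{u + 1} (ModEt X)] [HasExt.{u + 1} (ModEt X)] [EnoughInjectives (ModEt X)]

local notation "HH" => DerivedCategory.homologyFunctor (ModEt X)
local notation "SF" => DerivedCategory.singleFunctor (ModEt X)

theorem surjective_trans (hK : ∀ n, DCoh.IsQCohDMod (OEtRing X) (K n))
    (ht : ∀ (q : ℤ) (n : ℕ), Epi ((HH q).map (t n))) (V : EtOver X) [IsAffine V.obj.left.left] (m : ℤ) (n : ℕ) :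
    Function.Surjective (fun f : (SF m).obj ((genEt X).obj V) ⟶ K (n + 1) => f ≫ t n) := by
  intro g
  haveI := ht m n
  obtain ⟨s, hs⟩ := exists_factor_epi (hK (n + 1) m) (hK n m) ((HH m).map (t n)) V (SiteRlim.θ g)
  obtain ⟨f, rfl⟩ := (bijective_θ_qcoh (K (n + 1)) (hK (n + 1)) V m).2 s
  exact ⟨f, (bijective_θ_qcoh (K n) (hK n) V m).1 ((SiteRlim.θ_comp f (t n)).trans hs)⟩

/-- A section killed by all projections vanishes. -/
theorem section_eq_zero (hL : CohCx.IsRlimVia K t L a) (hK : ∀ n, DCoh.IsQCohDMod (OEtRing X) (K n))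
    (ht : ∀ (q : ℤ) (n : ℕ), Epi ((HH q).map (t n))) (q : ℤ) {U : EtOver X} (s : (genEt X).obj U ⟶ (HH q).obj L)
    (hs : ∀ n, s ≫ (HH q).map (a n) = 0) : s = 0 := by
  obtain ⟨S₁, hS₁, h₁⟩ := SiteRlim.locally_exists_θ (localGen_genEt (X := X)) s
  choose R hR hRY using fun (W : EtOver X) => exists_affine_sieve W
  refine (localGen_genEt (X := X)).sep s (Sieve.bind S₁.arrows fun W _ _ => R W)
    ((etTop X).bind_covering hS₁ (fun W _ _ => hR W)) ?_
  rintro W g ⟨Z, b, f, hf, hb, rfl⟩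
  obtain ⟨Y, p, r, hY, rfl⟩ := hRY Z b hb
  haveI : IsAffine Y.obj.left.left := hY
  obtain ⟨y, hy⟩ := h₁ (r ≫ f) (S₁.downward_closed hf r)
  have hy0 : y = 0 := by
    refine SiteRlim.eq_zero_of_comp hL y (fun n => ?_) fun w => ?_
    · refine (bijective_θ_qcoh (K n) (hK n) Y q).1 ?_
      refine (SiteRlim.θ_comp y (a n)).trans ?_
      rw [hy, Category.assoc, hs n, comp_zero]
      exact ((SiteRlim.θ_eq_zero_iff _).2 (Functor.map_zero _ _ _)).symm
    · let e := ((DerivedCategory.singleFunctors (ModEt X)).shiftIso (1 : ℤ) (q - 1) q (by omega)).app ((genEt X).obj Y)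
      refine SiteRlim.exists_sub_of_surjective 0 (fun n _ g => ?_) w
      obtain ⟨f, hf⟩ := surjective_trans hK ht Y (q - 1) n (e.inv ≫ g)
      exact ⟨e.hom ≫ f, by
        show (e.hom ≫ f) ≫ t n = g
        rw [Category.assoc, show f ≫ t n = e.inv ≫ g from hf, Iso.hom_inv_id_assoc]⟩
  have h0 : (genEt X).map (r ≫ f) ≫ s = 0 := by
    rw [← hy, hy0]
    exact (SiteRlim.θ_eq_zero_iff _).2 (Functor.map_zero _ _ _)
  rw [Category.assoc, Functor.map_comp, Category.assoc, h0, comp_zero]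

/-- Compatible sections over an affine object lift. -/
theorem exists_section_affine (hL : CohCx.IsRlimVia K t L a) (hK : ∀ n, DCoh.IsQCohDMod (OEtRing X) (K n))
    (q : ℤ) {V : EtOver X} [IsAffine V.obj.left.left] (x : ∀ n, (genEt X).obj V ⟶ (HH q).obj (K n))
    (hx : ∀ n, x (n + 1) ≫ (HH q).map (t n) = x n) : ∃ s, ∀ n, s ≫ (HH q).map (a n) = x n := by
  choose f hf using fun n => (bijective_θ_qcoh (K n) (hK n) V q).2 (x n)
  obtain ⟨y, hy⟩ := SiteRlim.exists_lift hL f fun n => (bijective_θ_qcoh (K n) (hK n) V q).1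
    ((SiteRlim.θ_comp (f (n + 1)) (t n)).trans (by rw [hf, hf]; exact hx n))
  exact ⟨SiteRlim.θ y, fun n => by rw [← SiteRlim.θ_comp, hy, hf]⟩

/-- Compatible sections lift. -/
theorem exists_section (hL : CohCx.IsRlimVia K t L a) (hK : ∀ n, DCoh.IsQCohDMod (OEtRing X) (K n))
    (ht : ∀ (q : ℤ) (n : ℕ), Epi ((HH q).map (t n))) (q : ℤ) {U : EtOver X}
    (x : ∀ n, (genEt X).obj U ⟶ (HH q).obj (K n))
    (hx : ∀ n, x (n + 1) ≫ (HH q).map (t n) = x n) : ∃ s, ∀ n, s ≫ (HH q).map (a n) = x n := by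
  obtain ⟨R, hR, hRY⟩ := exists_affine_sieve U
  have hloc : ∀ {W : EtOver X} (g : W ⟶ U), R g →
      ∃ s, ∀ n, s ≫ (HH q).map (a n) = (genEt X).map g ≫ x n := by
    intro W g hg
    obtain ⟨Y, p, r, hY, rfl⟩ := hRY g hg
    haveI : IsAffine Y.obj.left.left := hY
    obtain ⟨s, hs⟩ := exists_section_affine hL hK q (fun n => (genEt X).map r ≫ x n)
      fun n => by rw [Category.assoc, hx]
    exact ⟨(genEt X).map p ≫ s, fun n => by rw [Category.assoc, hs, Functor.map_comp, Category.assoc]⟩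
  choose σ hσ using @hloc
  let F := (SheafOfModules.toSheaf (OEtRing X)).obj ((HH q).obj L)
  let fam : Presieve.FamilyOfElements (F.obj ⋙ CategoryTheory.forget AddCommGrpCat.{u + 1}) R.arrows :=
    fun W g hg => genEtHom W _ (σ g hg)
  have hc : fam.Compatible := by
    intro Y₁ Y₂ Z g₁ g₂ f₁ f₂ h₁ h₂ e
    show F.obj.map g₁.op (genEtHom Y₁ _ (σ f₁ h₁)) = F.obj.map g₂.op (genEtHom Y₂ _ (σ f₂ h₂))
    rw [← genEtHom_pre, ← genEtHom_pre]
    refine congrArg _ (sub_eq_zero.1 (section_eq_zero hL hK ht q _ fun n => ?_))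
    exact comp_sub_comp_eq_zero ((genEt X).map g₁) ((genEt X).map g₂) (σ f₁ h₁) (σ f₂ h₂) _ ((genEt X).map f₁)
      ((genEt X).map f₂) (x n) (hσ f₁ h₁ n) (hσ f₂ h₂ n)
      (((genEt X).map_comp g₁ f₁).symm.trans ((congrArg (genEt X).map e).trans ((genEt X).map_comp g₂ f₂)))
  obtain ⟨s₀, hs₀, -⟩ := isSheaf_type F R hR fam hc
  refine ⟨(genEtHom U _).symm s₀, fun n => ?_⟩
  refine sub_eq_zero.1 ((localGen_genEt (X := X)).sep _ R hR fun {W} g hg => ?_)
  have e : (genEt X).map g ≫ (genEtHom U _).symm s₀ = σ g hg := by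
    refine (genEtHom W _).injective ((genEtHom_pre g _ _).trans ?_)
    rw [Equiv.apply_symm_apply]
    exact hs₀ g hg
  exact comp_sub_eq_zero ((genEt X).map g) _ _ (x n) (σ g hg) e (hσ g hg n)

theorem symm_comp {W : EtOver X} {M N : ModEt X} (f : M ⟶ N) (s : sectModEt M W) :
    (genEtHom W M).symm s ≫ f = (genEtHom W N).symm (f.val.app (op W) s) := by
  refine (genEtHom W N).injective ((genEtHom_post _ _).trans ?_)
  rw [Equiv.apply_symm_apply, Equiv.apply_symm_apply]
  rfl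

theorem sub_comp_zero {A : Type*} [Category A] [Preadditive A] {U M N : A} (s₁ s₂ : U ⟶ M) (φ : M ⟶ N)
    (h : s₁ ≫ φ = s₂ ≫ φ) : (s₁ - s₂) ≫ φ = 0 := by
  rw [Preadditive.sub_comp, h, sub_self]

/-- The sections of the cohomology of the limit are the limit of the sections. -/
theorem sect_rlim (hL : CohCx.IsRlimVia K t L a) (hK : ∀ n, DCoh.IsQCohDMod (OEtRing X) (K n))
    (ht : ∀ (q : ℤ) (n : ℕ), Epi ((HH q).map (t n))) (q : ℤ) (W : EtOver X) :
    (∀ s s' : sectModEt ((HH q).obj L) W,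
        (∀ n : ℕ, ((HH q).map (a n)).val.app (op W) s = ((HH q).map (a n)).val.app (op W) s') → s = s') ∧
      ∀ x : ∀ n : ℕ, sectModEt ((HH q).obj (K n)) W,
        (∀ n : ℕ, ((HH q).map (t n)).val.app (op W) (x (n + 1)) = x n) →
        ∃ s : sectModEt ((HH q).obj L) W, ∀ n : ℕ, ((HH q).map (a n)).val.app (op W) s = x n := by
  refine ⟨fun s s' h => ?_, fun x hx => ?_⟩
  · have h0 : (genEtHom W ((HH q).obj L)).symm s - (genEtHom W ((HH q).obj L)).symm s' = 0 := by
      refine section_eq_zero hL hK ht q _ fun n => ?_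
      exact sub_comp_zero _ _ _ ((symm_comp ((HH q).map (a n)) s).trans
        ((congrArg (genEtHom W ((HH q).obj (K n))).symm (h n)).trans (symm_comp ((HH q).map (a n)) s').symm))
    exact (genEtHom W ((HH q).obj L)).symm.injective (sub_eq_zero.1 h0)
  · obtain ⟨s, hs⟩ := exists_section hL hK ht q (fun n => (genEtHom W ((HH q).obj (K n))).symm (x n))
      fun n => (symm_comp _ (x (n + 1))).trans (congrArg _ (hx n))
    refine ⟨genEtHom W ((HH q).obj L) s, fun n => ?_⟩
    refine (genEtHom W ((HH q).obj (K n))).symm.injective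
      ((symm_comp ((HH q).map (a n)) (genEtHom W ((HH q).obj L) s)).symm.trans
        ((congrArg (fun z => z ≫ (HH q).map (a n)) ((genEtHom W ((HH q).obj L)).symm_apply_apply s)).trans (hs n)))

end Tower

end Groth.Agent.Rlim10
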